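import Mathlib
import Groth.Agent.Lib.Helper5.CA.GR2

set_option autoImplicit false
universe u v w

open IsLocalRing TensorProduct

namespace Groth.Agent.H5.ArtFS

/-- An Artinian local ring formally smooth over a field (same universe) is a field. -/
theorem isField_of_formallySmooth (k C : Type w) [Field k] [CommRing C] [IsLocalRing C]
    [IsArtinianRing C] [Algebra k C] [Algebra.FormallySmooth k C] : IsField C := by
  have h1 := Groth.Agent.H5.GR.isAdicFormallySmooth_of_formallySmooth k C (maximalIdeal C)
  have h2 : IsRegularLocalRing C :=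
    Groth.Agent.H5.GR.isRegularLocalRing_of_isAdicFormallySmooth k C h1
  have hdim : ringKrullDim C = 0 := by
    rw [← ringKrullDimZero_iff_ringKrullDim_eq_zero]
    infer_instance
  have h3 := h2.spanFinrank_maximalIdeal
  rw [hdim] at h3
  have h4 : (maximalIdeal C).spanFinrank = 0 := by exact_mod_cast h3
  rw [Submodule.spanFinrank_eq_zero_iff_eq_bot (IsNoetherian.noetherian _)] at h4
  exact IsLocalRing.isField_iff_maximalIdeal_eq.mpr h4

end Groth.Agent.H5.ArtFS

namespace Groth.Agent.H5.ArtFS

theorem isLocalHom_of_artinian (A : Type u) (B : Type v) [CommRing A] [CommRing B]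
    [IsLocalRing A] [IsLocalRing B] [IsArtinianRing A] (f : A →+* B) : IsLocalHom f := by
  constructor
  intro a ha
  by_contra hna
  have hm : a ∈ maximalIdeal A := (mem_maximalIdeal a).mpr hna
  have hnil : IsNilpotent a := by
    have h := IsArtinianRing.isNilpotent_jacobson_bot (R := A)
    rw [IsLocalRing.jacobson_eq_maximalIdeal ⊥ bot_ne_top] at h
    obtain ⟨n, hn⟩ := h
    refine ⟨n, ?_⟩
    have : a ^ n ∈ maximalIdeal A ^ n := Ideal.pow_mem_pow hm n
    rw [hn] at this
    simpa using this
  have h2 : IsNilpotent (f a) := hnil.map f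
  exact (ha.not_isNilpotent) h2 |>.elim

theorem formallySmooth_ulift (κ : Type u) (T : Type (max u v)) [Field κ] [CommRing T] [Algebra κ T]
    [Algebra.FormallySmooth κ T] :
    letI := ULift.algebra'.{v} κ T
    Algebra.FormallySmooth (ULift.{v} κ) T := by
  letI := ULift.algebra'.{v} κ T
  letI := ULift.algebra'.{v} κ κ
  haveI : IsScalarTower (ULift.{v} κ) κ T := IsScalarTower.of_algebraMap_eq (fun _ => rfl)
  let e : ULift.{v} κ ≃ₐ[ULift.{v} κ] κ :=
    { ULift.ringEquiv with commutes' := fun r => rfl }
  haveI : Algebra.FormallySmooth (ULift.{v} κ) κ := Algebra.FormallySmooth.of_equiv e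
  exact Algebra.FormallySmooth.comp (ULift.{v} κ) κ T

theorem main (A : Type u) (B : Type v) [CommRing A] [CommRing B]
    [IsLocalRing A] [IsLocalRing B] [IsArtinianRing A] [IsArtinianRing B] [Algebra A B]
    [Module.Flat A B] [Algebra.FormallySmooth A B] :
    Module.length A A = Module.length B B := by
  haveI : IsLocalHom (algebraMap A B) := isLocalHom_of_artinian A B _
  have h1 := IsLocalRing.length_baseChange A B A
  have h2 : Module.length B (B ⊗[A] A) = Module.length B B :=
    (AlgebraTensorModule.rid A B B).length_eq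
  have hlt : (maximalIdeal A).map (algebraMap A B) ≠ ⊤ :=
    (map_maximalIdeal_lt_top (algebraMap A B)).ne
  -- the fibre ring
  letI : Field (A ⧸ maximalIdeal A) := Ideal.Quotient.field _
  let Q := B ⧸ (maximalIdeal A).map (algebraMap A B)
  let T := (A ⧸ maximalIdeal A) ⊗[A] B
  let eT : T ≃+* Q :=
    (Algebra.TensorProduct.comm A (A ⧸ maximalIdeal A) B).toRingEquiv.trans
      (Algebra.TensorProduct.quotIdealMapEquivTensorQuot B (maximalIdeal A)).symm.toRingEquiv
  haveI : Nontrivial Q := Ideal.Quotient.nontrivial_iff.mpr hlt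
  haveI : IsLocalRing Q := IsLocalRing.of_surjective' (Ideal.Quotient.mk _)
    Ideal.Quotient.mk_surjective
  haveI : IsLocalRing T := eT.symm.isLocalRing
  haveI : IsArtinianRing Q := inferInstance
  haveI : IsArtinianRing T := eT.symm.surjective.isArtinianRing
  letI := ULift.algebra'.{v} (A ⧸ maximalIdeal A) T
  haveI : Algebra.FormallySmooth (ULift.{v} (A ⧸ maximalIdeal A)) T :=
    formallySmooth_ulift.{u, v} (A ⧸ maximalIdeal A) T
  have hT : IsField T := isField_of_formallySmooth.{max u v} (ULift.{v} (A ⧸ maximalIdeal A)) T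
  have hQ : IsField Q := MulEquiv.isField hT eT.symm.toMulEquiv
  have hmax : ((maximalIdeal A).map (algebraMap A B)).IsMaximal :=
    Ideal.Quotient.maximal_of_isField _ hQ
  have h3 : Module.length B (B ⧸ (maximalIdeal A).map (algebraMap A B)) = 1 := by
    rw [Module.length_eq_one_iff, isSimpleModule_iff_isCoatom]
    exact hmax.out
  rw [h2, h3, mul_one] at h1
  exact h1.symm

end Groth.Agent.H5.ArtFS
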