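import Mathlib
import Groth.Prelude.Def_MoreMor
import Groth.Agent.Lib.Helper5.ArtFS.A
import Groth.Agent.Lib.Helper3.OmSm1
import Groth.Agent.Lib.Helper2.RatFun3

/-!
# Lengths of the local rings at generic points under flat formally smooth morphisms (helper5)
-/

set_option autoImplicit false
set_option linter.style.haveILetI false

open CategoryTheory AlgebraicGeometry

namespace Groth.Agent.H5.ArtFS

universe u

/-- Scheme-level formal smoothness gives formally smooth stalk maps. -/
theorem formallySmooth_stalkMap {X' X : Scheme.{u}} (f : X' ⟶ X)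
    (hf : MoreMor.IsFormallySmoothHom f) (x : X') : (f.stalkMap x).hom.FormallySmooth := by
  obtain ⟨_, ⟨(V : X.Opens), hV, rfl⟩, hfx, -⟩ :=
    X.isBasis_affineOpens.exists_subset_of_mem_open (Set.mem_univ (f x)) isOpen_univ
  obtain ⟨_, ⟨(U : X'.Opens), hU, rfl⟩, hxU, hUV'⟩ :=
    X'.isBasis_affineOpens.exists_subset_of_mem_open (show x ∈ (f ⁻¹ᵁ V : Set X') from hfx)
      (f ⁻¹ᵁ V).isOpen
  have e : U ≤ f ⁻¹ᵁ V := hUV'
  letI algRS : Algebra Γ(X, V) Γ(X', U) := (f.appLE V U e).hom.toAlgebra
  letI algRA : Algebra Γ(X, V) (X.presheaf.stalk (f x)) :=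
    X.presheaf.algebra_section_stalk ⟨f x, hfx⟩
  letI algSB : Algebra Γ(X', U) (X'.presheaf.stalk x) :=
    X'.presheaf.algebra_section_stalk ⟨x, hxU⟩
  letI algAB : Algebra (X.presheaf.stalk (f x)) (X'.presheaf.stalk x) :=
    (f.stalkMap x).hom.toAlgebra
  letI algRB : Algebra Γ(X, V) (X'.presheaf.stalk x) :=
    ((algebraMap Γ(X', U) (X'.presheaf.stalk x)).comp (algebraMap Γ(X, V) Γ(X', U))).toAlgebra
  haveI : IsScalarTower Γ(X, V) Γ(X', U) (X'.presheaf.stalk x) := .of_algebraMap_eq' rfl
  haveI : IsScalarTower Γ(X, V) (X.presheaf.stalk (f x)) (X'.presheaf.stalk x) := by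
    refine .of_algebraMap_eq' ?_
    ext a
    simp only [RingHom.algebraMap_toAlgebra, RingHom.comp_apply,
      TopCat.Presheaf.stalk_open_algebraMap]
    rw [Scheme.Hom.germ_stalkMap_apply]
    simp only [Scheme.Hom.appLE, CommRingCat.hom_comp, RingHom.comp_apply,
      X'.presheaf.germ_res_apply]
  haveI := hV.isLocalization_stalk ⟨f x, hfx⟩
  haveI := hU.isLocalization_stalk ⟨x, hxU⟩
  haveI : Algebra.FormallySmooth Γ(X, V) Γ(X', U) :=
    Groth.Agent.H3.Om.formallySmooth_appLE hf hU hV e
  haveI : Algebra.FormallySmooth Γ(X', U) (X'.presheaf.stalk x) :=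
    Algebra.FormallySmooth.of_isLocalization (hU.primeIdealOf ⟨x, hxU⟩).asIdeal.primeCompl
  haveI : Algebra.FormallySmooth Γ(X, V) (X'.presheaf.stalk x) :=
    Algebra.FormallySmooth.comp _ Γ(X', U) _
  exact Algebra.FormallySmooth.localization_base
    (hV.primeIdealOf ⟨f x, hfx⟩).asIdeal.primeCompl

theorem map_genericPoint_of_flat {X' X : Scheme.{u}} (f : X' ⟶ X) [IrreducibleSpace ↥X']
    [IrreducibleSpace ↥X] [Flat f] : f (genericPoint X') = genericPoint X := by
  have hgen : GeneralizingMap f := Flat.generalizingMap f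
  have h1 : genericPoint X ⤳ f (genericPoint X') :=
    (genericPoint_spec X).specializes (by simp)
  obtain ⟨x', hx', hfx'⟩ := hgen h1
  have h2 : x' = genericPoint X' := Groth.Agent.H2.RatFun.genericPoint_maximal X' x' hx'
  rw [← hfx', h2]

theorem main_scheme {X' X : Scheme.{u}} (f : X' ⟶ X)
    [IrreducibleSpace ↥X'] [IrreducibleSpace ↥X] [IsNoetherian X'] [IsNoetherian X] [Flat f]
    (hf : MoreMor.IsFormallySmoothHom f) :
    Module.length (X'.presheaf.stalk (genericPoint X')) (X'.presheaf.stalk (genericPoint X'))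
      = Module.length (X.presheaf.stalk (genericPoint X)) (X.presheaf.stalk (genericPoint X)) := by
  have hη := map_genericPoint_of_flat f
  rw [← hη]
  letI algAB : Algebra (X.presheaf.stalk (f (genericPoint X')))
      (X'.presheaf.stalk (genericPoint X')) := (f.stalkMap (genericPoint X')).hom.toAlgebra
  haveI : Module.Flat (X.presheaf.stalk (f (genericPoint X')))
      (X'.presheaf.stalk (genericPoint X')) := Flat.stalkMap f (genericPoint X')
  haveI : Algebra.FormallySmooth (X.presheaf.stalk (f (genericPoint X')))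
      (X'.presheaf.stalk (genericPoint X')) := formallySmooth_stalkMap f hf (genericPoint X')
  haveI : IsArtinianRing (X'.presheaf.stalk (genericPoint X')) :=
    Groth.Agent.H2.RatFun.isArtinianRing_stalk X' _
      (Groth.Agent.H2.RatFun.genericPoint_maximal X')
  haveI : IsArtinianRing (X.presheaf.stalk (f (genericPoint X'))) := by
    rw [hη]
    exact Groth.Agent.H2.RatFun.isArtinianRing_stalk X _
      (Groth.Agent.H2.RatFun.genericPoint_maximal X)
  exact (Groth.Agent.H5.ArtFS.main (X.presheaf.stalk (f (genericPoint X')))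
    (X'.presheaf.stalk (genericPoint X'))).symm

end Groth.Agent.H5.ArtFS
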